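import Cfsg.Agent.Lib.HeCentralizer.Code
import Cfsg.Agent.Lib.HeCentralizer.Data
import Cfsg.Agent.Lib.SporOutHe.Levels
import Cfsg.Agent.Lib.SporOutHe.Searches

/-! The certificate checks. -/

set_option autoImplicit false
set_option maxRecDepth 100000

namespace Cfsg.Agent.Lib.HeCentralizer

open Cfsg.Agent.Lib.Coset Cfsg.Agent.Lib.SporPres.He Cfsg.Agent.Lib.SporOutHe
open Cfsg.Agent.Lib.SchurMult.Held (same)

/-- The central involution. -/
def zw : List ℕ := yWord ++ yWord

/-- The word in the seven involutions of a word in the two generators. -/
def gsub (w : List ℕ) : List ℕ := subst gw w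

/-- The matrix code of a word in the two generators. -/
def codeW (w : List ℕ) : List ℕ := w.foldr (fun i acc => mm (mcs.getD i oneCode) acc) oneCode

/-- An entry of the transversal. -/
def rep (i : ℕ) : ℕ × List ℕ × List ℕ := reps.getD i (0, [], [])

/-- An entry of the stabiliser. -/
def stab (k : ℕ) : ℕ × List ℕ × List ℕ := stabs.getD k (0, [], [])

/-- The word of an entry of the stabiliser. -/
def stabWord (k : ℕ) : List ℕ := (stab k).2.1.flatMap fun a => agens.getD a []

/-- The image of a point under a word in the two generators. -/
noncomputable def gapp (w : List ℕ) (x : ℕ) : ℕ := tab.app (gsub w) x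

/-- The generators are involution words commuting with the involution, with matrices in the
centraliser of the transvection. -/
noncomputable def baseCheck : Bool :=
  (gw.all fun w => (w.all fun a => decide (a < tab.gens)) && same (w ++ zw) (zw ++ w)) &&
    (zw.all fun a => decide (a < tab.gens)) && same (zw ++ zw) [] &&
    !Nat.beq (tab.app zw 206) 206 &&
    (levY.map fun L => L.b) == [206, 1168, tab.app zw 206, tab.app zw 1168] &&
    decide (gw.length = 2) && decide (mcs.length = 2) &&
    ((List.range 2).all fun i =>
      ((List.range (mords.getD i 0)).foldl (fun acc _ => mm (mcs.getD i oneCode) acc) oneCode == oneCode) &&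
        !Nat.beq (mords.getD i 0) 0 &&
        mm (mcs.getD i oneCode) [3, 2, 4, 8, 16] == mm [3, 2, 4, 8, 16] (mcs.getD i oneCode))

/-- The entries of the transversal are right. -/
noncomputable def repsCheck : Bool :=
  (reps.all fun e => Nat.beq (gapp e.2.1 206) e.1 && codeW e.2.1 == e.2.2) &&
    SchurMult.GolayEngine.increasing (reps.map (·.1)) && decide (reps.length = 336) &&
    (rep 31).2.1.isEmpty

/-- The entries of the stabiliser are right. -/
noncomputable def stabsCheck : Bool :=
  ((List.range 64).all fun k => Nat.beq (gapp (stabWord k) 206) 206 &&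
      Nat.beq (gapp (stabWord k) 1168) (stab k).1 && codeW (stabWord k) == (stab k).2.2) &&
    SchurMult.GolayEngine.increasing (stabs.map (·.1)) && decide (stabs.length = 64) &&
    (stab 36).2.1.isEmpty

/-- One product in the stabiliser. -/
noncomputable def closeOne (e : ℕ × ℕ × ℕ) : Bool :=
  decide (e.2.2 < 64) && Nat.beq (gapp (agens.getD e.1 []) (stab e.2.1).1) (stab e.2.2).1 &&
    Nat.beq (gapp (agens.getD e.1 []) 206) 206 &&
    mm (codeW (agens.getD e.1 [])) (stab e.2.1).2.2 == (stab e.2.2).2.2

/-- All products in the stabiliser are listed and right. -/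
noncomputable def closesCheck : Bool :=
  decide (closes.map (fun e => (e.1, e.2.1)) =
      (List.range 3).flatMap fun a => (List.range 64).map fun k => (a, k)) &&
    closes.all closeOne && decide (agens.length = 3) &&
    (stabs.all fun e => e.2.1.all fun a => decide (a < 3))

/-- One product with a generator. -/
noncomputable def stepOne (e : ℕ × ℕ × ℕ × ℕ) : Bool :=
  decide (e.2.2.1 < 336) && decide (e.2.2.2 < 64) &&
    Nat.beq (gapp [e.1] (rep e.2.1).1) (rep e.2.2.1).1 &&
    Nat.beq (gapp (e.1 :: (rep e.2.1).2.1) 1168) (gapp (rep e.2.2.1).2.1 (stab e.2.2.2).1) &&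
    mm (mcs.getD e.1 oneCode) (rep e.2.1).2.2 == mm (rep e.2.2.1).2.2 (stab e.2.2.2).2.2

/-- All products with the generators are listed and right. -/
noncomputable def stepsCheck (lo len : ℕ) : Bool :=
  ((steps.drop lo).take len).all stepOne

/-- All products with the generators are listed. -/
def stepsShape : Bool :=
  decide (steps.map (fun e => (e.1, e.2.1)) =
    (List.range 2).flatMap fun a => (List.range 336).map fun k => (a, k))

/-- The test of the identity matrix on a code. -/
def isOne (M : List ℕ) : Bool := (List.range 5).all fun r => Nat.beq (M.getD r 0 % 32) (1 <<< r)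

/-- Only the identity of the products has the identity as matrix. -/
def kerCheck (lo len : ℕ) : Bool :=
  (List.range len).all fun i => (List.range 64).all fun k =>
    (Nat.beq (lo + i) 31 && Nat.beq k 36) || !isOne (mm (rep (lo + i)).2.2 (stab k).2.2)

/-- The roots of the orbit trees. -/
def roots : List ℕ := 206 :: otherRoots

/-- The bits of a list. -/
def bitsOf (l : List ℕ) : ℕ := l.foldl (fun acc p => acc ||| 1 <<< p) 0

/-- The points reached along the orbit trees, or zero on a fault. -/
noncomputable def reach : List (ℕ × ℕ × ℕ) → ℕ → ℕ
  | [], seen => seen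
  | e :: es, seen =>
    bif seen.testBit e.2.2 && decide (e.2.1 < 2) && Nat.beq (gapp [e.2.1] e.2.2) e.1 &&
      decide (e.2.2 < tab.size) then
      reach es (seen ||| 1 <<< e.1)
    else 0

/-- Every point is fixed by the involution or reached. -/
noncomputable def coverCheck : Bool :=
  let seen := reach forest (bitsOf roots)
  (List.range tab.size).all fun p => seen.testBit p || Nat.beq (tab.app zw p) p

/-- No element of the centraliser takes the first point to another root, and those fixing it are
listed. -/
noncomputable def rootCheck (r lo len : ℕ) : Bool :=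
  (List.range len).all fun i =>
    match sift tab levY [r, lo + i, tab.app zw r, tab.app zw (lo + i)] with
    | none => true
    | some w => !same (w ++ zw) (zw ++ w) || (Nat.beq r 206 && (stabs.map (·.1)).contains (lo + i))

theorem baseCheck_ok : baseCheck = true := by decide +kernel

theorem repsCheck_ok : repsCheck = true := by decide +kernel

theorem stabsCheck_ok : stabsCheck = true := by decide +kernel

theorem closesCheck_ok : closesCheck = true := by decide +kernel

theorem stepsShape_ok : stepsShape = true := by decide +kernel

theorem coverCheck_ok : coverCheck = true := by decide +kernel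

end Cfsg.Agent.Lib.HeCentralizer
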