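import Cfsg.Agent.Lib.HeCentralizer.Searches

/-!
The centraliser of an involution in the Held group is the centraliser of a transvection.
-/

set_option autoImplicit false
set_option maxRecDepth 100000

namespace Cfsg.Agent.Lib.HeCentralizer

open Cfsg Cfsg.Agent.Lib.Coset Cfsg.Agent.Lib.SporPres.He Cfsg.Agent.Lib.SporOutHe
open Cfsg.Agent.Lib.SchurMult.Held (elt elt_append same same_spec app_eq)

/-- The involution. -/
noncomputable def z : Cfsg.Spor.He := elt zw

/-- The element of a word in the two generators. -/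
noncomputable def G (w : List ℕ) : Cfsg.Spor.He := elt (gsub w)

theorem G_append (v w : List ℕ) : G (v ++ w) = G v * G w := by
  simp [G, gsub, subst, elt_append]

theorem G_cons (i : ℕ) (w : List ℕ) : G (i :: w) = G [i] * G w := G_append [i] w

theorem G_nil : G [] = 1 := rfl

theorem codeW_append (v w : List ℕ) : toMat (codeW (v ++ w)) = toMat (codeW v) * toMat (codeW w) := by
  induction v with
  | nil => rw [List.nil_append, show codeW [] = oneCode from rfl, toMat_one, one_mul]
  | cons a v ih =>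
    show toMat (mm _ (codeW (v ++ w))) = toMat (mm _ (codeW v)) * _
    rw [toMat_mm, toMat_mm, ih, mul_assoc]

theorem toMat_codeW_cons (i : ℕ) (w : List ℕ) :
    toMat (codeW (i :: w)) = toMat (mcs.getD i oneCode) * toMat (codeW w) := toMat_mm _ _

theorem toMat_codeW_nil : toMat (codeW []) = 1 := toMat_one

theorem base_facts :
    gw.all (fun w => w.all fun a => decide (a < tab.gens)) = true ∧
      (∀ w ∈ gw, elt w * z = z * elt w) ∧ (∀ a ∈ zw, a < tab.gens) ∧ z * z = 1 ∧
      tab.app zw 206 ≠ 206 ∧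
      (levY.map fun L => L.b) = [206, 1168, tab.app zw 206, tab.app zw 1168] ∧
      ∀ i < 2, (∃ k, k ≠ 0 ∧ toMat (mcs.getD i oneCode) ^ k = 1) ∧
        toMat (mcs.getD i oneCode) * toMat [3, 2, 4, 8, 16] =
          toMat [3, 2, 4, 8, 16] * toMat (mcs.getD i oneCode) := by
  have h := baseCheck_ok
  simp only [baseCheck, Bool.and_eq_true, List.all_eq_true, decide_eq_true_eq, beq_iff_eq,
    Bool.not_eq_true', List.mem_range] at h
  obtain ⟨⟨⟨⟨⟨⟨⟨hg, hz⟩, hzz⟩, hzm⟩, hb⟩, -⟩, -⟩, hm⟩ := h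
  refine ⟨?_, fun w hw => ?_, hz, ?_, ?_, hb, fun i hi => ⟨?_, ?_⟩⟩
  · simp only [List.all_eq_true, decide_eq_true_eq]
    exact fun w hw => (hg w hw).1
  · obtain ⟨h1, h2⟩ := hg w hw
    have := same_spec (List.forall_mem_append.2 ⟨h1, hz⟩) (List.forall_mem_append.2 ⟨hz, h1⟩) h2
    rwa [elt_append, elt_append] at this
  · have := same_spec (List.forall_mem_append.2 ⟨hz, hz⟩) (by simp) hzz
    rw [elt_append] at this
    exact this
  · intro e
    rw [e] at hzm
    exact Bool.false_ne_true (hzm.symm.trans (Nat.beq_refl 206))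
  · obtain ⟨⟨hp, hk⟩, -⟩ := hm i hi
    refine ⟨mords.getD i 0, fun e => ?_, ?_⟩
    · rw [e] at hk
      exact Bool.false_ne_true (hk.symm.trans (Nat.beq_refl 0))
    · have hfold : ∀ k, toMat ((List.range k).foldl (fun acc _ => mm (mcs.getD i oneCode) acc) oneCode) =
          toMat (mcs.getD i oneCode) ^ k := fun k => by
        induction k with
        | zero => exact toMat_one
        | succ k ih =>
          rw [List.range_succ, List.foldl_append, List.foldl_cons, List.foldl_nil, toMat_mm, ih, pow_succ']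
      rw [← hfold, hp, toMat_one]
  · have := (hm i hi).2
    rw [← toMat_mm, ← toMat_mm, this]

theorem gsub_lt (w : List ℕ) : ∀ a ∈ gsub w, a < tab.gens := subst_lt base_facts.1 w

theorem G_comm (w : List ℕ) : G w * z = z * G w := by
  induction w with
  | nil => rw [G_nil, one_mul, mul_one]
  | cons i w ih =>
    rw [G_cons, mul_assoc, ih, ← mul_assoc, ← mul_assoc]
    congr 1
    rcases Nat.lt_or_ge i gw.length with hi | hi
    · have := base_facts.2.1 _ (List.getElem_mem hi)
      have e : gsub [i] = gw[i] := by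
        show [i].flatMap (fun j => gw.getD j []) = _
        rw [List.flatMap_cons, List.flatMap_nil, List.append_nil, List.getD_eq_getElem _ _ hi]
      rw [G, e]
      exact this
    · have e : gsub [i] = [] := by
        show [i].flatMap (fun j => gw.getD j []) = _
        rw [List.flatMap_cons, List.flatMap_nil, List.append_nil, List.getD_eq_default _ _ hi]
      rw [G, e, show elt [] = 1 from rfl, one_mul, mul_one]

/-- The image of a point under an element. -/
noncomputable def pt (g : Cfsg.Spor.He) (x : ℕ) : ℕ :=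
  if h : x < tab.size then (act g ⟨x, h⟩ : ℕ) else x

theorem pt_lt {g : Cfsg.Spor.He} {x : ℕ} (hx : x < tab.size) : pt g x < tab.size := by
  rw [pt, dif_pos hx]
  exact Fin.isLt _

theorem pt_mul (g h : Cfsg.Spor.He) (x : ℕ) : pt (g * h) x = pt g (pt h x) := by
  by_cases hx : x < tab.size
  · simp [pt, hx]
  · simp [pt, hx]

theorem pt_one (x : ℕ) : pt 1 x = x := by
  by_cases hx : x < tab.size <;> simp [pt, hx]

theorem pt_inj {g : Cfsg.Spor.He} {x y : ℕ} (h : pt g x = pt g y) : x = y := by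
  rw [← pt_one x, ← pt_one y, ← inv_mul_cancel g, pt_mul, pt_mul, h]

theorem app_pt {w : List ℕ} (hw : ∀ a ∈ w, a < tab.gens) {x : ℕ} (hx : x < tab.size) :
    tab.app w x = pt (elt w) x := by
  rw [pt, dif_pos hx]
  exact app_eq hw hx

theorem gapp_pt (w : List ℕ) {x : ℕ} (hx : x < tab.size) : gapp w x = pt (G w) x :=
  app_pt (gsub_lt w) hx

theorem size_eq : tab.size = 2058 := by decide +kernel

theorem sift_cent {g : Cfsg.Spor.He} (hg : g * z = z * g) :
    ∃ w, (∀ a ∈ w, a < tab.gens) ∧ g = elt w ∧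
      sift tab levY [pt g 206, pt g 1168, tab.app zw (pt g 206), tab.app zw (pt g 1168)] = some w := by
  obtain ⟨-, -, hz, -, -, hb, -⟩ := base_facts
  have h206 : (206 : ℕ) < tab.size := by rw [size_eq]; norm_num
  have h1168 : (1168 : ℕ) < tab.size := by rw [size_eq]; norm_num
  have hz' : ∀ x, x < tab.size → tab.app zw (pt g x) = pt g (tab.app zw x) := fun x hx => by
    rw [app_pt hz (pt_lt hx), app_pt hz hx, ← pt_mul, ← pt_mul]
    exact congrArg (fun u => pt u x) hg.symm
  rw [hz' 206 h206, hz' 1168 h1168]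
  have hK : Nat.card act.range ≤ SporOutHe.total levY := by
    rw [levYfilled.total, ← card_and_inj.1, Nat.card_congr (MonoidHom.ofInjective card_and_inj.2).toEquiv]
  have hin : Inside (hP := SporPres.He.good) act.range levY := fun L hL d hd w hw =>
    ⟨elt w, act_ev w (List.all_eq_true.2 fun a ha => decide_eq_true (valid_letters levYfilled.valid L hL d hd w hw a ha))⟩
  have hts : List.Forall₂ (fun (L : Level) t => ∀ i : Fin tab.size, (i : ℕ) = L.b → (act g i : ℕ) = t) levY
      [pt g 206, pt g 1168, pt g (tab.app zw 206), pt g (tab.app zw 1168)] := by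
    rw [show [pt g 206, pt g 1168, pt g (tab.app zw 206), pt g (tab.app zw 1168)] =
        (levY.map fun L => L.b).map (pt g) by rw [hb]; rfl, List.map_map, List.forall₂_map_right_iff,
      List.forall₂_same]
    intro L _ i hi
    show _ = pt g L.b
    rw [← hi, pt, dif_pos i.2]
  obtain ⟨w, hsift, hw, hgw⟩ := sift_spec levYfilled.valid hin hK (act g) ⟨g, rfl⟩ _ hts
  exact ⟨w, hw, card_and_inj.2 (hgw.trans (act_ev w (List.all_eq_true.2 fun a ha => decide_eq_true (hw a ha))).symm), hsift⟩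

theorem cent_ext {g h : Cfsg.Spor.He} (hg : g * z = z * g) (hh : h * z = z * h)
    (h0 : pt g 206 = pt h 206) (h1 : pt g 1168 = pt h 1168) : g = h := by
  obtain ⟨v, -, rfl, hv⟩ := sift_cent hg
  obtain ⟨w, -, rfl, hw⟩ := sift_cent hh
  rw [h0, h1, hw] at hv
  rw [Option.some.inj hv]

theorem entries {α : Type*} (l : List α) (d : α) (p : α → Bool) (h : l.all p = true) {i : ℕ}
    (hi : i < l.length) : p (l.getD i d) = true := by
  rw [List.getD_eq_getElem _ _ hi]
  exact List.all_eq_true.1 h _ (List.getElem_mem _)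

theorem fst_inj (l : List (ℕ × List ℕ × List ℕ)) (h : SchurMult.GolayEngine.increasing (l.map (·.1)) = true)
    {i j : ℕ} (hi : i < l.length) (hj : j < l.length)
    (e : (l.getD i (0, [], [])).1 = (l.getD j (0, [], [])).1) : i = j := by
  have hnd : (l.map (·.1)).Nodup :=
    (SchurMult.GolayEngine.pairwise_of_increasing _ h).imp fun hlt => hlt.ne
  rw [List.getD_eq_getElem _ _ hi, List.getD_eq_getElem _ _ hj] at e
  exact (hnd.getElem_inj_iff (hi := by simpa using hi) (hj := by simpa using hj)).1 (by simpa using e)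

/-- The element of a transversal entry. -/
noncomputable def U (i : ℕ) : Cfsg.Spor.He := G (rep i).2.1

/-- The element of a stabiliser entry. -/
noncomputable def V (k : ℕ) : Cfsg.Spor.He := G (stabWord k)

theorem rep_spec {i : ℕ} (hi : i < 336) :
    pt (U i) 206 = (rep i).1 ∧ toMat (codeW (rep i).2.1) = toMat (rep i).2.2 := by
  have h := repsCheck_ok
  simp only [repsCheck, Bool.and_eq_true, decide_eq_true_eq] at h
  have he := entries reps (0, [], []) _ h.1.1.1 (show i < reps.length by rw [h.1.2]; exact hi)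
  simp only [Bool.and_eq_true, beq_iff_eq, Nat.beq_eq] at he
  refine ⟨?_, by rw [rep, he.2]⟩
  rw [U, rep, ← gapp_pt _ (by rw [size_eq]; norm_num)]
  exact he.1

theorem stab_spec {k : ℕ} (hk : k < 64) :
    pt (V k) 206 = 206 ∧ pt (V k) 1168 = (stab k).1 ∧ (stab k).1 < tab.size ∧
      toMat (codeW (stabWord k)) = toMat (stab k).2.2 := by
  have h := stabsCheck_ok
  simp only [stabsCheck, Bool.and_eq_true, decide_eq_true_eq] at h
  have he := List.all_eq_true.1 h.1.1.1 k (List.mem_range.2 hk)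
  simp only [Bool.and_eq_true, beq_iff_eq, Nat.beq_eq] at he
  have h1168 : (1168 : ℕ) < tab.size := by rw [size_eq]; norm_num
  have e : pt (V k) 1168 = (stab k).1 := by rw [V, ← gapp_pt _ h1168]; exact he.1.2
  refine ⟨?_, e, e ▸ pt_lt h1168, by rw [he.2]⟩
  rw [V, ← gapp_pt _ (by rw [size_eq]; norm_num)]
  exact he.1.1

/-- The products of the entries with their matrices. -/
def Listed (g : Cfsg.Spor.He) (M : Matrix (Fin 5) (Fin 5) (ZMod 2)) : Prop :=
  ∃ k < 64, g = V k ∧ M = toMat (stab k).2.2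

theorem stab_step {a k : ℕ} (ha : a < 3) (hk : k < 64) :
    Listed (G (agens.getD a []) * V k) (toMat (codeW (agens.getD a [])) * toMat (stab k).2.2) := by
  have h := closesCheck_ok
  simp only [closesCheck, Bool.and_eq_true, decide_eq_true_eq] at h
  have hmem : (a, k) ∈ closes.map (fun e => (e.1, e.2.1)) := by
    rw [h.1.1.1]
    simp [ha, hk]
  obtain ⟨⟨a', k', k''⟩, he, e⟩ := List.mem_map.1 hmem
  obtain ⟨rfl, rfl⟩ := Prod.mk.inj e
  have hc := List.all_eq_true.1 h.1.1.2 _ he
  simp only [closeOne, Bool.and_eq_true, decide_eq_true_eq, beq_iff_eq, Nat.beq_eq] at hc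
  obtain ⟨⟨⟨hk'', h1⟩, h2⟩, h3⟩ := hc
  have h206 : (206 : ℕ) < tab.size := by rw [size_eq]; norm_num
  obtain ⟨f0, f1, f2, -⟩ := stab_spec hk
  obtain ⟨g0, g1, -, -⟩ := stab_spec hk''
  refine ⟨k'', hk'', cent_ext ?_ (G_comm _) ?_ ?_, ?_⟩
  · rw [V, ← G_append]
    exact G_comm _
  · rw [pt_mul, f0, ← gapp_pt _ h206, h2, g0]
  · rw [pt_mul, f1, ← gapp_pt _ f2, h1, g1]
  · rw [← toMat_mm, h3]

theorem stab_mul {i k : ℕ} (hi : i < 64) (hk : k < 64) :
    Listed (V i * V k) (toMat (stab i).2.2 * toMat (stab k).2.2) := by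
  have hl : ∀ a ∈ (stab i).2.1, a < 3 := by
    have h := closesCheck_ok
    simp only [closesCheck, Bool.and_eq_true, decide_eq_true_eq] at h
    have hlen : i < stabs.length := by
      have := stabsCheck_ok
      simp only [stabsCheck, Bool.and_eq_true, decide_eq_true_eq] at this
      rw [this.1.2]; exact hi
    have := entries stabs (0, [], []) _ h.2 hlen
    simpa [stab] using this
  rw [← (stab_spec hi).2.2.2]
  show Listed (G ((stab i).2.1.flatMap fun a => agens.getD a []) * V k)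
    (toMat (codeW ((stab i).2.1.flatMap fun a => agens.getD a [])) * _)
  generalize (stab i).2.1 = l at hl
  induction l with
  | nil => exact ⟨k, hk, by rw [List.flatMap_nil, G_nil, one_mul], by rw [List.flatMap_nil, toMat_codeW_nil, one_mul]⟩
  | cons a l ih =>
    obtain ⟨j, hj, e1, e2⟩ := ih fun b hb => hl b (List.mem_cons_of_mem _ hb)
    rw [List.flatMap_cons, G_append, codeW_append, mul_assoc, mul_assoc, e1, e2]
    exact stab_step (hl a List.mem_cons_self) hj

theorem gen_step {a i : ℕ} (ha : a < 2) (hi : i < 336) :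
    ∃ i' < 336, ∃ k < 64, G [a] * U i = U i' * V k ∧
      toMat (mcs.getD a oneCode) * toMat (rep i).2.2 = toMat (rep i').2.2 * toMat (stab k).2.2 := by
  have hmem : (a, i) ∈ steps.map (fun e => (e.1, e.2.1)) := by
    rw [of_decide_eq_true stepsShape_ok]
    exact List.mem_flatMap.2 ⟨a, List.mem_range.2 ha, List.mem_map.2 ⟨i, List.mem_range.2 hi, rfl⟩⟩
  obtain ⟨⟨a', i', i'', k⟩, he, e⟩ := List.mem_map.1 hmem
  obtain ⟨rfl, rfl⟩ := Prod.mk.inj e
  obtain ⟨n, hn, hne⟩ := List.getElem_of_mem he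
  have hlen : steps.length = 672 := by decide +kernel
  have hs : stepOne (a', i', i'', k) = true := by
    have hpart : ∃ lo, stepsCheck lo 168 = true ∧ lo ≤ n ∧ n < lo + 168 := by
      rcases (by omega : n < 168 ∨ (168 ≤ n ∧ n < 336) ∨ (336 ≤ n ∧ n < 504) ∨ (504 ≤ n ∧ n < 672)) with h | h | h | h
      · exact ⟨0, stepsCheck0, by omega, by omega⟩
      · exact ⟨168, stepsCheck168, by omega, by omega⟩
      · exact ⟨336, stepsCheck336, by omega, by omega⟩
      · exact ⟨504, stepsCheck504, by omega, by omega⟩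
    obtain ⟨lo, h, h1, h2⟩ := hpart
    refine List.all_eq_true.1 h _ (List.mem_iff_getElem?.2 ⟨n - lo, ?_⟩)
    rw [List.getElem?_take, if_pos (by omega : n - lo < 168), List.getElem?_drop,
      show lo + (n - lo) = n by omega, List.getElem?_eq_getElem hn, hne]
  simp only [stepOne, Bool.and_eq_true, decide_eq_true_eq, beq_iff_eq, Nat.beq_eq] at hs
  obtain ⟨⟨⟨⟨hi'', hk⟩, h1⟩, h2⟩, h3⟩ := hs
  have h206 : (206 : ℕ) < tab.size := by rw [size_eq]; norm_num
  have h1168 : (1168 : ℕ) < tab.size := by rw [size_eq]; norm_num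
  obtain ⟨f0, -⟩ := rep_spec hi
  obtain ⟨g0, -⟩ := rep_spec hi''
  obtain ⟨v0, v1, v2, -⟩ := stab_spec hk
  have hrlt : (rep i').1 < tab.size := f0 ▸ pt_lt h206
  refine ⟨i'', hi'', k, hk, cent_ext ?_ ?_ ?_ ?_, ?_⟩
  · rw [U, ← G_cons]; exact G_comm _
  · rw [U, V, ← G_append]; exact G_comm _
  · rw [pt_mul, f0, pt_mul, v0, g0, ← gapp_pt _ hrlt, h1]
  · rw [U, ← G_cons, pt_mul (U i''), v1, U, ← gapp_pt _ h1168, ← gapp_pt _ v2, h2]
  · rw [← toMat_mm, h3, toMat_mm]

theorem normal_form : ∀ w : List ℕ, (∀ a ∈ w, a < 2) → ∃ i < 336, ∃ k < 64,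
    G w = U i * V k ∧ toMat (codeW w) = toMat (rep i).2.2 * toMat (stab k).2.2
  | [], _ => by
    have hr := repsCheck_ok
    have hs := stabsCheck_ok
    simp only [repsCheck, stabsCheck, Bool.and_eq_true, List.isEmpty_iff] at hr hs
    have h36 : stabWord 36 = [] := by rw [stabWord, hs.2, List.flatMap_nil]
    refine ⟨31, by norm_num, 36, by norm_num, ?_, ?_⟩
    · rw [U, V, hr.2, h36, G_nil, one_mul]
    · rw [← (rep_spec (show 31 < 336 by norm_num)).2, ← (stab_spec (show 36 < 64 by norm_num)).2.2.2,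
        hr.2, h36, toMat_codeW_nil, one_mul]
  | a :: w, h => by
    obtain ⟨i, hi, k, hk, e1, e2⟩ := normal_form w fun b hb => h b (List.mem_cons_of_mem _ hb)
    obtain ⟨i', hi', j, hj, s1, s2⟩ := gen_step (h a List.mem_cons_self) hi
    obtain ⟨l, hl, t1, t2⟩ := stab_mul hj hk
    refine ⟨i', hi', l, hl, ?_, ?_⟩
    · rw [G_cons, e1, ← mul_assoc, s1, mul_assoc, t1]
    · rw [toMat_codeW_cons, e2, ← mul_assoc, s2, mul_assoc, t2]

theorem UV_inj {i i' k k' : ℕ} (hi : i < 336) (hi' : i' < 336) (hk : k < 64) (hk' : k' < 64)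
    (e : U i * V k = U i' * V k') : i = i' ∧ k = k' := by
  have hr := repsCheck_ok
  have hs := stabsCheck_ok
  simp only [repsCheck, stabsCheck, Bool.and_eq_true, decide_eq_true_eq] at hr hs
  have h := congrArg (fun g => pt g 206) e
  simp only [pt_mul, (stab_spec hk).1, (stab_spec hk').1, (rep_spec hi).1, (rep_spec hi').1] at h
  obtain rfl := fst_inj reps hr.1.1.2 (by rw [hr.1.2]; exact hi) (by rw [hr.1.2]; exact hi') h
  refine ⟨rfl, ?_⟩
  have h' := congrArg (fun g => pt g 1168) (mul_left_cancel e)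
  simp only [(stab_spec hk).2.1, (stab_spec hk').2.1] at h'
  exact fst_inj stabs hs.1.1.2 (by rw [hs.1.2]; exact hk) (by rw [hs.1.2]; exact hk') h'

theorem code_of_G {v w : List ℕ} (hv : ∀ a ∈ v, a < 2) (hw : ∀ a ∈ w, a < 2) (h : G v = G w) :
    toMat (codeW v) = toMat (codeW w) := by
  obtain ⟨i, hi, k, hk, e1, e2⟩ := normal_form v hv
  obtain ⟨i', hi', k', hk', f1, f2⟩ := normal_form w hw
  obtain ⟨rfl, rfl⟩ := UV_inj hi hi' hk hk' (e1.symm.trans (h.trans f1))
  rw [e2, f2]

theorem isOne_of_toMat {M : List ℕ} (h : toMat M = 1) : isOne M = true := by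
  simp only [isOne, List.all_eq_true, List.mem_range, Nat.beq_eq]
  intro r hr
  refine Nat.eq_of_testBit_eq fun j => ?_
  rw [show (32 : ℕ) = 2 ^ 5 from rfl, Nat.testBit_mod_two_pow, Nat.one_shiftLeft]
  by_cases hj : j < 5
  · have e := congrFun (congrFun h ⟨r, hr⟩) ⟨j, hj⟩
    simp only [toMat, Matrix.one_apply, Fin.mk.injEq] at e
    rw [Nat.testBit_two_pow]
    simp only [hj, decide_true, Bool.true_and]
    rcases hb : (M.getD r 0).testBit j with _ | _ <;> rw [hb] at e <;> by_cases hrj : r = j <;>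
      simp [hrj] at e ⊢
  · rw [Nat.testBit_two_pow]
    simp only [hj, decide_false, Bool.false_and]
    exact (decide_eq_false (by omega)).symm

theorem G_of_code {w : List ℕ} (hw : ∀ a ∈ w, a < 2) (h : toMat (codeW w) = 1) : G w = 1 := by
  obtain ⟨i, hi, k, hk, e1, e2⟩ := normal_form w hw
  obtain ⟨i0, hi0, k0, hk0, f1, -⟩ := normal_form [] (by simp)
  have hpart : ∃ lo, kerCheck lo 84 = true ∧ lo ≤ i ∧ i < lo + 84 := by
    rcases (by omega : i < 84 ∨ (84 ≤ i ∧ i < 168) ∨ (168 ≤ i ∧ i < 252) ∨ (252 ≤ i ∧ i < 336)) with h | h | h | h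
    · exact ⟨0, kerCheck0, by omega, by omega⟩
    · exact ⟨84, kerCheck84, by omega, by omega⟩
    · exact ⟨168, kerCheck168, by omega, by omega⟩
    · exact ⟨252, kerCheck252, by omega, by omega⟩
  obtain ⟨lo, hc, h1, h2⟩ := hpart
  simp only [kerCheck, List.all_eq_true, List.mem_range, Bool.or_eq_true, Bool.and_eq_true,
    Nat.beq_eq, Bool.not_eq_true'] at hc
  have hik := hc (i - lo) (by omega) k hk
  rw [show lo + (i - lo) = i by omega] at hik
  rcases hik with ⟨rfl, rfl⟩ | hne
  · have hr := repsCheck_ok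
    have hs := stabsCheck_ok
    simp only [repsCheck, stabsCheck, Bool.and_eq_true, List.isEmpty_iff] at hr hs
    rw [e1, U, V, hr.2, stabWord, hs.2, List.flatMap_nil, G_nil, one_mul]
  · exfalso
    rw [← toMat_mm] at e2
    exact Bool.false_ne_true (hne.symm.trans (isOne_of_toMat (e2.symm.trans h)))

theorem rootPart206 {q : ℕ} (hq : q < 2058) : ∃ lo, rootCheck 206 lo 294 = true ∧ lo ≤ q ∧ q < lo + 294 := by
  rcases (by omega : (0 ≤ q ∧ q < 294) ∨ (294 ≤ q ∧ q < 588) ∨ (588 ≤ q ∧ q < 882) ∨ (882 ≤ q ∧ q < 1176) ∨ (1176 ≤ q ∧ q < 1470) ∨ (1470 ≤ q ∧ q < 1764) ∨ (1764 ≤ q ∧ q < 2058)) with h | h | h | h | h | h | h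
  · exact ⟨0, rootCheck206_0, h.1, h.2⟩
  · exact ⟨294, rootCheck206_294, h.1, h.2⟩
  · exact ⟨588, rootCheck206_588, h.1, h.2⟩
  · exact ⟨882, rootCheck206_882, h.1, h.2⟩
  · exact ⟨1176, rootCheck206_1176, h.1, h.2⟩
  · exact ⟨1470, rootCheck206_1470, h.1, h.2⟩
  · exact ⟨1764, rootCheck206_1764, h.1, h.2⟩

theorem rootPart0 {q : ℕ} (hq : q < 2058) : ∃ lo, rootCheck 0 lo 294 = true ∧ lo ≤ q ∧ q < lo + 294 := by
  rcases (by omega : (0 ≤ q ∧ q < 294) ∨ (294 ≤ q ∧ q < 588) ∨ (588 ≤ q ∧ q < 882) ∨ (882 ≤ q ∧ q < 1176) ∨ (1176 ≤ q ∧ q < 1470) ∨ (1470 ≤ q ∧ q < 1764) ∨ (1764 ≤ q ∧ q < 2058)) with h | h | h | h | h | h | h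
  · exact ⟨0, rootCheck0_0, h.1, h.2⟩
  · exact ⟨294, rootCheck0_294, h.1, h.2⟩
  · exact ⟨588, rootCheck0_588, h.1, h.2⟩
  · exact ⟨882, rootCheck0_882, h.1, h.2⟩
  · exact ⟨1176, rootCheck0_1176, h.1, h.2⟩
  · exact ⟨1470, rootCheck0_1470, h.1, h.2⟩
  · exact ⟨1764, rootCheck0_1764, h.1, h.2⟩

theorem rootPart7 {q : ℕ} (hq : q < 2058) : ∃ lo, rootCheck 7 lo 294 = true ∧ lo ≤ q ∧ q < lo + 294 := by
  rcases (by omega : (0 ≤ q ∧ q < 294) ∨ (294 ≤ q ∧ q < 588) ∨ (588 ≤ q ∧ q < 882) ∨ (882 ≤ q ∧ q < 1176) ∨ (1176 ≤ q ∧ q < 1470) ∨ (1470 ≤ q ∧ q < 1764) ∨ (1764 ≤ q ∧ q < 2058)) with h | h | h | h | h | h | h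
  · exact ⟨0, rootCheck7_0, h.1, h.2⟩
  · exact ⟨294, rootCheck7_294, h.1, h.2⟩
  · exact ⟨588, rootCheck7_588, h.1, h.2⟩
  · exact ⟨882, rootCheck7_882, h.1, h.2⟩
  · exact ⟨1176, rootCheck7_1176, h.1, h.2⟩
  · exact ⟨1470, rootCheck7_1470, h.1, h.2⟩
  · exact ⟨1764, rootCheck7_1764, h.1, h.2⟩

/-- The point is the first image only of products of the two generators. -/
def Reached (p : ℕ) : Prop :=
  ∀ g : Cfsg.Spor.He, g * z = z * g → pt g 206 = p → ∃ w : List ℕ, (∀ a ∈ w, a < 2) ∧ g = G w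

theorem mem_roots {g : Cfsg.Spor.He} (hg : g * z = z * g) {r : ℕ}
    (hpart : ∀ q < 2058, ∃ lo, rootCheck r lo 294 = true ∧ lo ≤ q ∧ q < lo + 294)
    (hr : pt g 206 = r) : r = 206 ∧ pt g 1168 ∈ stabs.map (·.1) := by
  obtain ⟨w, hw, hgw, hsift⟩ := sift_cent hg
  have hz := base_facts.2.2.1
  have hq : pt g 1168 < 2058 := size_eq ▸ pt_lt (by rw [size_eq]; norm_num)
  obtain ⟨lo, hc, h1, h2⟩ := hpart _ hq
  simp only [rootCheck, List.all_eq_true, List.mem_range] at hc
  have hh := hc (pt g 1168 - lo) (by omega)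
  rw [show lo + (pt g 1168 - lo) = pt g 1168 by omega, ← hr, hsift] at hh
  have hsame : same (w ++ zw) (zw ++ w) = true := by
    simp only [same, List.all_eq_true, Nat.beq_eq]
    intro b hb
    have hbl := SchurMult.Held.base_lt_size hb
    rw [app_eq (List.forall_mem_append.2 ⟨hw, hz⟩) hbl, app_eq (List.forall_mem_append.2 ⟨hz, hw⟩) hbl,
      elt_append, elt_append, ← hgw, show g * elt zw = elt zw * g from hg]
  simp only [hsame, Bool.not_true, Bool.false_or, Bool.and_eq_true, Nat.beq_eq, List.contains_eq_mem,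
    decide_eq_true_eq] at hh
  exact ⟨hr ▸ hh.1, hh.2⟩

theorem reached_root : ∀ r ∈ roots, Reached r := by
  have h206 : Reached 206 := fun g hg h0 => by
    obtain ⟨-, hmem⟩ := mem_roots hg (fun q hq => rootPart206 hq) h0
    obtain ⟨e, he, hq⟩ := List.mem_map.1 hmem
    obtain ⟨k, hk, rfl⟩ := List.getElem_of_mem he
    have hs := stabsCheck_ok
    simp only [stabsCheck, Bool.and_eq_true, decide_eq_true_eq] at hs
    have hk' : k < 64 := hs.1.2 ▸ hk
    refine ⟨stabWord k, ?_, cent_ext hg (G_comm _) ?_ ?_⟩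
    · intro a ha
      obtain ⟨i, -, hi⟩ := List.mem_flatMap.1 ha
      have hlet : ∀ i < 3, ∀ a ∈ agens.getD i [], a < 2 := by decide +kernel
      rcases Nat.lt_or_ge i 3 with h3 | h3
      · exact hlet i h3 a hi
      · have hc := closesCheck_ok
        simp only [closesCheck, Bool.and_eq_true, decide_eq_true_eq] at hc
        rw [List.getD_eq_default _ _ (hc.1.2.le.trans h3)] at hi
        simp at hi
    · exact h0.trans (stab_spec hk').1.symm
    · refine (hq.symm.trans ?_).trans (stab_spec hk').2.1.symm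
      rw [stab, List.getD_eq_getElem _ _ hk]
  intro r hr
  fin_cases hr
  · exact h206
  · exact fun g hg h0 => absurd (mem_roots hg (fun q hq => rootPart0 hq) h0).1 (by norm_num)
  · exact fun g hg h0 => absurd (mem_roots hg (fun q hq => rootPart7 hq) h0).1 (by norm_num)

theorem testBit_bitsOf : ∀ (l : List ℕ) (acc p : ℕ),
    (l.foldl (fun a q => a ||| 1 <<< q) acc).testBit p = true → acc.testBit p = true ∨ p ∈ l
  | [], acc, p, h => Or.inl h
  | q :: l, acc, p, h => by
    rw [List.foldl_cons] at h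
    rcases testBit_bitsOf l _ p h with h | h
    · rw [Nat.testBit_or, Bool.or_eq_true, Nat.one_shiftLeft, Nat.testBit_two_pow, decide_eq_true_eq] at h
      rcases h with h | rfl
      · exact Or.inl h
      · exact Or.inr List.mem_cons_self
    · exact Or.inr (List.mem_cons_of_mem _ h)

theorem reached_forest : ∀ (es : List (ℕ × ℕ × ℕ)) (seen : ℕ),
    (∀ p, seen.testBit p = true → Reached p) → ∀ p, (reach es seen).testBit p = true → Reached p
  | [], seen, h, p, hp => h p hp
  | e :: es, seen, h, p, hp => by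
    rw [reach] at hp
    rcases hb : (seen.testBit e.2.2 && decide (e.2.1 < 2) && Nat.beq (gapp [e.2.1] e.2.2) e.1 &&
        decide (e.2.2 < tab.size)) with _ | _
    · rw [hb, cond_false, Nat.zero_testBit] at hp
      exact absurd hp Bool.false_ne_true
    · rw [hb, cond_true] at hp
      simp only [Bool.and_eq_true, decide_eq_true_eq, Nat.beq_eq] at hb
      obtain ⟨⟨⟨hpar, hj⟩, happ⟩, hlt⟩ := hb
      refine reached_forest es _ (fun p hp => ?_) p hp
      rw [Nat.testBit_or, Bool.or_eq_true, Nat.one_shiftLeft, Nat.testBit_two_pow, decide_eq_true_eq] at hp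
      rcases hp with hp | rfl
      · exact h p hp
      · intro g hg hgp
        have hcomm : SemiconjBy (G [e.2.1]) z z := G_comm _
        have hg' : (G [e.2.1])⁻¹ * g * z = z * ((G [e.2.1])⁻¹ * g) :=
          ((Commute.inv_left hcomm).mul_left hg).eq
        have hpt : pt ((G [e.2.1])⁻¹ * g) 206 = e.2.2 := by
          refine pt_inj (g := G [e.2.1]) ?_
          rw [← pt_mul, mul_inv_cancel_left, hgp, ← gapp_pt _ hlt, happ]
        obtain ⟨w, hw, he⟩ := h _ hpar _ hg' hpt
        exact ⟨e.2.1 :: w, List.forall_mem_cons.2 ⟨hj, hw⟩, by rw [G_cons, ← he, mul_inv_cancel_left]⟩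

theorem cover_cent {g : Cfsg.Spor.He} (hg : g * z = z * g) :
    ∃ w : List ℕ, (∀ a ∈ w, a < 2) ∧ g = G w := by
  have h206 : (206 : ℕ) < tab.size := by rw [size_eq]; norm_num
  obtain ⟨-, -, hz, -, hmove, -, -⟩ := base_facts
  have h := List.all_eq_true.1 coverCheck_ok (pt g 206) (List.mem_range.2 (pt_lt h206))
  simp only [Bool.or_eq_true, Nat.beq_eq] at h
  rcases h with h | h
  · refine reached_forest forest _ (fun p hp => ?_) _ h g hg rfl
    rcases testBit_bitsOf roots 0 p hp with h0 | h0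
    · simp at h0
    · exact reached_root p h0
  · refine absurd ?_ hmove
    rw [app_pt hz (pt_lt h206), ← pt_mul, show elt zw * g = g * z from hg.symm, pt_mul] at h
    rw [app_pt hz h206]
    exact pt_inj h

theorem det_codeW : ∀ w : List ℕ, (∀ a ∈ w, a < 2) → (toMat (codeW w)).det = 1
  | [], _ => by rw [toMat_codeW_nil, Matrix.det_one]
  | a :: w, h => by
    obtain ⟨⟨k, hk, hp⟩, -⟩ := base_facts.2.2.2.2.2.2 a (h a List.mem_cons_self)
    have h1 := congrArg Matrix.det hp
    rw [Matrix.det_pow, Matrix.det_one] at h1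
    have hne : (toMat (mcs.getD a oneCode)).det ≠ 0 := fun e => zero_ne_one (α := ZMod 2) (by rw [← h1, e, zero_pow hk])
    have hone : (toMat (mcs.getD a oneCode)).det = 1 :=
      ((by decide +kernel : ∀ x : ZMod 2, x = 0 ∨ x = 1) _).resolve_left hne
    rw [toMat_codeW_cons, Matrix.det_mul, hone, det_codeW w fun b hb => h b (List.mem_cons_of_mem _ hb), one_mul]

theorem comm_codeW : ∀ w : List ℕ, (∀ a ∈ w, a < 2) →
    toMat (codeW w) * toMat [3, 2, 4, 8, 16] = toMat [3, 2, 4, 8, 16] * toMat (codeW w)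
  | [], _ => by rw [toMat_codeW_nil, one_mul, mul_one]
  | a :: w, h => by
    have h1 := (base_facts.2.2.2.2.2.2 a (h a List.mem_cons_self)).2
    rw [toMat_codeW_cons, mul_assoc, comm_codeW w fun b hb => h b (List.mem_cons_of_mem _ hb), ← mul_assoc,
      h1, mul_assoc]

theorem transvection_code :
    toMat [3, 2, 4, 8, 16] = Matrix.transvection (0 : Fin 5) 1 (1 : ZMod 2) := by
  ext i j
  fin_cases i <;> fin_cases j <;>
    simp [toMat, Matrix.transvection, Matrix.single, Nat.testBit, Nat.shiftRight_eq_div_pow]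

theorem centralizer_iso (s : Matrix.SpecialLinearGroup (Fin 5) (ZMod 2))
    (hs : (s : Matrix (Fin 5) (Fin 5) (ZMod 2)) = Matrix.transvection 0 1 1) :
    ∃ z : Cfsg.Spor.He, orderOf z = 2 ∧
      Nonempty (↥(Subgroup.centralizer ({z} : Set Cfsg.Spor.He)) ≃*
        ↥(Subgroup.centralizer ({s} : Set (Matrix.SpecialLinearGroup (Fin 5) (ZMod 2))))) := by
  classical
  have : Fact (Nat.Prime 2) := ⟨Nat.prime_two⟩
  obtain ⟨-, -, hzl, hzz, hmove, -, -⟩ := base_facts
  have h206 : (206 : ℕ) < tab.size := by rw [size_eq]; norm_num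
  refine ⟨z, orderOf_eq_prime (by rw [pow_two, hzz]) (fun e => hmove ?_), ?_⟩
  · rw [app_pt hzl h206, show elt zw = 1 from e, pt_one]
  have hwd : ∀ g : Subgroup.centralizer ({z} : Set Cfsg.Spor.He),
      ∃ w : List ℕ, (∀ a ∈ w, a < 2) ∧ (g : Cfsg.Spor.He) = G w :=
    fun g => cover_cent (Subgroup.mem_centralizer_singleton_iff.1 g.2)
  choose wd hlt heq using hwd
  let M : Subgroup.centralizer ({z} : Set Cfsg.Spor.He) → Matrix.SpecialLinearGroup (Fin 5) (ZMod 2) :=
    fun g => ⟨toMat (codeW (wd g)), det_codeW _ (hlt g)⟩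
  have hmem : ∀ g, M g ∈
      Subgroup.centralizer ({s} : Set (Matrix.SpecialLinearGroup (Fin 5) (ZMod 2))) := fun g => by
    rw [Subgroup.mem_centralizer_singleton_iff]
    refine Subtype.ext ?_
    show toMat (codeW (wd g)) * (s : Matrix (Fin 5) (Fin 5) (ZMod 2)) = (s : Matrix (Fin 5) (Fin 5) (ZMod 2)) * toMat (codeW (wd g))
    rw [hs, ← transvection_code]
    exact comm_codeW _ (hlt g)
  let f : Subgroup.centralizer ({z} : Set Cfsg.Spor.He) →*
      Subgroup.centralizer ({s} : Set (Matrix.SpecialLinearGroup (Fin 5) (ZMod 2))) :=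
    MonoidHom.mk' (fun g => ⟨M g, hmem g⟩) fun g h => by
      refine Subtype.ext (Subtype.ext ?_)
      show toMat (codeW (wd (g * h))) = toMat (codeW (wd g)) * toMat (codeW (wd h))
      rw [← codeW_append]
      refine code_of_G (hlt _) (List.forall_mem_append.2 ⟨hlt g, hlt h⟩) ?_
      rw [G_append, ← heq, ← heq, ← heq]
      rfl
  have hinj : Function.Injective f := (injective_iff_map_eq_one f).2 fun g hg => by
    have h1 : toMat (codeW (wd g)) = 1 := congrArg (fun x : Subgroup.centralizer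
      ({s} : Set (Matrix.SpecialLinearGroup (Fin 5) (ZMod 2))) => mat x) hg
    exact Subtype.ext ((heq g).trans (G_of_code (hlt g) h1))
  let u : Fin 336 × Fin 64 → Subgroup.centralizer ({z} : Set Cfsg.Spor.He) := fun p =>
    ⟨U p.1 * V p.2, Subgroup.mem_centralizer_singleton_iff.2 (by rw [U, V, ← G_append]; exact G_comm _)⟩
  have hu : Function.Injective u := fun p q e => by
    obtain ⟨h1, h2⟩ := UV_inj p.1.2 q.1.2 p.2.2 q.2.2 (congrArg Subtype.val e)
    exact Prod.ext (Fin.ext h1) (Fin.ext h2)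
  have : Finite Cfsg.Spor.He := Nat.finite_of_card_ne_zero (by rw [card_and_inj.1]; norm_num)
  have h2 : (21504 : ℕ) ≤ Nat.card (Subgroup.centralizer ({z} : Set Cfsg.Spor.He)) := by
    have := Nat.card_le_card_of_injective u hu
    simpa using this
  have h3 := Nat.card_le_card_of_injective f hinj
  have h4 := card_centralizer_le s hs
  have hbij : Function.Bijective f :=
    (Nat.bijective_iff_injective_and_card f).2 ⟨hinj, le_antisymm h3 (h4.trans h2)⟩
  exact ⟨MulEquiv.ofBijective f hbij⟩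

end Cfsg.Agent.Lib.HeCentralizer
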