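import Cfsg.Agent.Lib.HeCentralizer.Checks

/-! The searches and the larger checks. -/

set_option autoImplicit false
set_option maxRecDepth 100000

namespace Cfsg.Agent.Lib.HeCentralizer

theorem stepsCheck0 : stepsCheck 0 168 = true := by decide +kernel

theorem stepsCheck168 : stepsCheck 168 168 = true := by decide +kernel

theorem stepsCheck336 : stepsCheck 336 168 = true := by decide +kernel

theorem stepsCheck504 : stepsCheck 504 168 = true := by decide +kernel

theorem kerCheck0 : kerCheck 0 84 = true := by decide +kernel

theorem kerCheck84 : kerCheck 84 84 = true := by decide +kernel

theorem kerCheck168 : kerCheck 168 84 = true := by decide +kernel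

theorem kerCheck252 : kerCheck 252 84 = true := by decide +kernel

theorem rootCheck206_0 : rootCheck 206 0 294 = true := by decide +kernel

theorem rootCheck206_294 : rootCheck 206 294 294 = true := by decide +kernel

theorem rootCheck206_588 : rootCheck 206 588 294 = true := by decide +kernel

theorem rootCheck206_882 : rootCheck 206 882 294 = true := by decide +kernel

theorem rootCheck206_1176 : rootCheck 206 1176 294 = true := by decide +kernel

theorem rootCheck206_1470 : rootCheck 206 1470 294 = true := by decide +kernel

theorem rootCheck206_1764 : rootCheck 206 1764 294 = true := by decide +kernel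

theorem rootCheck0_0 : rootCheck 0 0 294 = true := by decide +kernel

theorem rootCheck0_294 : rootCheck 0 294 294 = true := by decide +kernel

theorem rootCheck0_588 : rootCheck 0 588 294 = true := by decide +kernel

theorem rootCheck0_882 : rootCheck 0 882 294 = true := by decide +kernel

theorem rootCheck0_1176 : rootCheck 0 1176 294 = true := by decide +kernel

theorem rootCheck0_1470 : rootCheck 0 1470 294 = true := by decide +kernel

theorem rootCheck0_1764 : rootCheck 0 1764 294 = true := by decide +kernel

theorem rootCheck7_0 : rootCheck 7 0 294 = true := by decide +kernel

theorem rootCheck7_294 : rootCheck 7 294 294 = true := by decide +kernel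

theorem rootCheck7_588 : rootCheck 7 588 294 = true := by decide +kernel

theorem rootCheck7_882 : rootCheck 7 882 294 = true := by decide +kernel

theorem rootCheck7_1176 : rootCheck 7 1176 294 = true := by decide +kernel

theorem rootCheck7_1470 : rootCheck 7 1470 294 = true := by decide +kernel

theorem rootCheck7_1764 : rootCheck 7 1764 294 = true := by decide +kernel

end Cfsg.Agent.Lib.HeCentralizer
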